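-- Sub-project [PDER+] of OPAR (S5989), package [ISO] (helper84): `xM M` preserves the plus form.
import Mathlib
import Cfsg.Agent.Lib.Helper57.OPar.Defs

set_option autoImplicit false
open scoped MatrixGroups
open Matrix

namespace Cfsg.Agent.Lib.Helper84.OPar

open Cfsg.Agent.Lib.Helper57.OPar

universe u

theorem quadFormPlus_eq_dot {F : Type u} [Field F] (d : ℕ) (v : Fin d ⊕ Fin d → F) :
    Cfsg.quadFormPlus d F v = (v ∘ Sum.inl) ⬝ᵥ (v ∘ Sum.inr) := by
  simp [Cfsg.quadFormPlus, dotProduct]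

theorem pkgIso : PkgIso.{u} := by
  intro F _ d M h v
  have hT : Mᵀ * (Mᵀ * Mᵀ) = 0 := by
    have h1 := congrArg Matrix.transpose h
    rw [Matrix.transpose_mul, Matrix.transpose_mul, Matrix.transpose_zero] at h1
    exact h1
  have hprod : (1 + M)ᵀ * (1 - Mᵀ + Mᵀ * Mᵀ) = 1 := by
    rw [Matrix.transpose_add, Matrix.transpose_one]
    have h2 : (1 + Mᵀ) * (1 - Mᵀ + Mᵀ * Mᵀ) = 1 + Mᵀ * (Mᵀ * Mᵀ) := by noncomm_ring
    rw [h2, hT, add_zero]
  rw [quadFormPlus_eq_dot, quadFormPlus_eq_dot]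
  unfold xM
  rw [Matrix.fromBlocks_mulVec]
  simp only [Sum.elim_comp_inl, Sum.elim_comp_inr, Matrix.zero_mulVec, add_zero, zero_add]
  rw [← Matrix.vecMul_transpose, ← Matrix.dotProduct_mulVec, Matrix.mulVec_mulVec, hprod,
    Matrix.one_mulVec]

end Cfsg.Agent.Lib.Helper84.OPar
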