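-- Sub-project [PDER+] of OPAR (S5989), package [NIL] (helper84): nilpotency of `xM M - 1`.
import Mathlib
import Cfsg.Agent.Lib.Helper57.OPar.Defs

set_option autoImplicit false
open scoped MatrixGroups
open Matrix

namespace Cfsg.Agent.Lib.Helper84.OPar

open Cfsg.Agent.Lib.Helper57.OPar

universe u

theorem xM_sub_one {F : Type u} [Field F] {d : ℕ} (M : Matrix (Fin d) (Fin d) F) :
    xM M - 1 = Matrix.fromBlocks M 0 0 (-Mᵀ + Mᵀ * Mᵀ) := by
  unfold xM
  have h1 : (1 : Matrix (Fin d ⊕ Fin d) (Fin d ⊕ Fin d) F) =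
      Matrix.fromBlocks (1 : Matrix (Fin d) (Fin d) F) 0 0 (1 : Matrix (Fin d) (Fin d) F) :=
    Matrix.fromBlocks_one.symm
  rw [h1, sub_eq_add_neg, Matrix.fromBlocks_neg, Matrix.fromBlocks_add]
  congr 1
  · abel
  · simp
  · simp
  · abel

theorem transpose_cube_zero {F : Type u} [Field F] {d : ℕ} (M : Matrix (Fin d) (Fin d) F)
    (h : M * M * M = 0) : Mᵀ * Mᵀ * Mᵀ = 0 := by
  have h1 := congrArg Matrix.transpose h
  rw [Matrix.transpose_mul, Matrix.transpose_mul, Matrix.transpose_zero] at h1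
  rw [mul_assoc]
  exact h1

theorem transpose_sq_zero {F : Type u} [Field F] {d : ℕ} (M : Matrix (Fin d) (Fin d) F)
    (h : M * M = 0) : Mᵀ * Mᵀ = 0 := by
  have h1 := congrArg Matrix.transpose h
  rw [Matrix.transpose_mul, Matrix.transpose_zero] at h1
  exact h1

theorem pkgNil : PkgNil.{u} := by
  intro F _ d M
  constructor
  · intro h
    have hT := transpose_cube_zero M h
    rw [xM_sub_one, Matrix.fromBlocks_multiply, Matrix.fromBlocks_multiply]
    simp only [mul_zero, zero_mul, add_zero, zero_add]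
    rw [h]
    have hE : (-Mᵀ + Mᵀ * Mᵀ) * (-Mᵀ + Mᵀ * Mᵀ) * (-Mᵀ + Mᵀ * Mᵀ) = 0 := by
      have hc : Commute Mᵀ (-1 + Mᵀ) := (Commute.one_right _).neg_right.add_right (Commute.refl _)
      have h2 : -Mᵀ + Mᵀ * Mᵀ = Mᵀ * (-1 + Mᵀ) := by noncomm_ring
      rw [h2, ← pow_three', hc.mul_pow, pow_three', hT, zero_mul]
    rw [hE]
    exact Matrix.fromBlocks_zero
  · intro h
    have hT := transpose_sq_zero M h
    rw [xM_sub_one, Matrix.fromBlocks_multiply]
    simp only [mul_zero, zero_mul, add_zero, zero_add]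
    rw [h, hT, add_zero, neg_mul_neg, hT]
    exact Matrix.fromBlocks_zero

end Cfsg.Agent.Lib.Helper84.OPar
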