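-- Sub-project [PDER+] of OPAR (S5989), package [ORD] (helper84): `xM M` is invertible of
-- order `p` in characteristic `p ≥ 3` when `M ^ 3 = 0 ≠ M`.
import Mathlib
import Cfsg.Agent.Lib.Helper57.OPar.Defs
import Cfsg.Agent.Lib.Helper84.OPar.Nil

set_option autoImplicit false
open scoped MatrixGroups
open Matrix

namespace Cfsg.Agent.Lib.Helper84.OPar

open Cfsg.Agent.Lib.Helper57.OPar

universe u

theorem pkgOrd : PkgOrd.{u} := by
  intro F _ p _ _ hp2 d M h hM
  classical
  have hp : p.Prime := Fact.out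
  have hd : 0 < d := by
    rcases Nat.eq_zero_or_pos d with h0 | h0
    · subst h0
      exact absurd (Subsingleton.elim M 0) hM
    · exact h0
  have hne : Nonempty (Fin d ⊕ Fin d) := ⟨Sum.inl ⟨0, hd⟩⟩
  have hN3 := (pkgNil F d M).1 h
  have hp3 : 3 ≤ p := by have := hp.two_le; omega
  have hpow : (xM M) ^ p = 1 := by
    have h1 : xM M = (xM M - 1) + 1 := by abel
    rw [h1, add_pow_char_of_commute p (Commute.one_right _), one_pow]
    have h2 : (xM M - 1) ^ p = 0 := by
      have h3 : p = 3 + (p - 3) := by omega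
      rw [h3, pow_add, pow_three', hN3, zero_mul]
    rw [h2, zero_add]
  refine ⟨Units.ofPowEqOne (xM M) p hpow hp.ne_zero, rfl, ?_⟩
  apply orderOf_eq_prime
  · exact Units.pow_ofPowEqOne hpow hp.ne_zero
  · intro h1
    have h2 : xM M = 1 := congrArg Units.val h1
    unfold xM at h2
    rw [← Matrix.fromBlocks_one, Matrix.fromBlocks_inj] at h2
    apply hM
    have h3 := h2.1
    simpa using h3

end Cfsg.Agent.Lib.Helper84.OPar
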